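import Cfsg.Agent.H19.J4V.Mathieu
import Cfsg.Agent.H95.J4Five.Inner
import Cfsg.Agent.H95.J4Five.Transport
import Cfsg.Agent.H69.J4.Main

/-!
The two-core of the centralizer of an element of the class of `z` in an elementary subgroup of order
`2 ^ 11`: it normalises the subgroup and contains the elements `d` outside the class with `d * a`
outside the class.
-/

set_option autoImplicit false
set_option maxRecDepth 20000
set_option linter.unusedSectionVars false
set_option linter.style.haveILetI false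

namespace H95.J4Tau

open Subgroup Cfsg.Agent.H69.J4 H88.J4Fusion
open scoped Pointwise

variable {G : Type*} [Group G] [Finite G] {z : G} {P : Subgroup G}

theorem tmask_low : ((List.range 2048).all fun a =>
    !((H19.J4V.tMask 653).testBit a && (H19.J4V.tMask 653).testBit (a ^^^ 1)) ||
      Nat.blt a 128) = true := by decide +kernel

theorem pack_one : H19.J4V.pack true 0 0 = 1 := by decide +kernel

/-- In `V0`, an element outside the class whose product with `z` is outside lies in `E`. -/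
theorem mem_E_of_pair [IsSimpleGroup G] (hG : ¬ IsMulCommutative G) {E N : Subgroup G}
    {d : Data z E P} (R : Real d) {e : ↥(centralizer ({z} : Set G)) →* MulAut ↥Cfsg.Spor.M22}
    (o : Outer z E P N e) {v : G} (hv : v ∈ R.V0) (hv1 : v ≠ 1) (hvz : ¬ IsConj z v)
    (hw1 : v * z ≠ 1) (hwz : ¬ IsConj z (v * z)) : v ∈ E := by
  obtain ⟨F, -, hM⟩ := H19.J4V.exists_pattern (R := R) hG o
  obtain ⟨a, ha, rfl⟩ := H19.J4V.pt_surj F hv
  have hz : F.pt 1 = z := by
    rw [← pack_one, H19.J4V.pt_pack F _ (by norm_num) (by norm_num),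
      show H19.J4V.sv 0 = 0 by decide +kernel, H19.J4V.lz_zero, H19.J4V.Lifts.kx, H19.J4V.selB_zero]
    simp
  have h1 : (H19.J4V.tMask 653).testBit a = true :=
    (hM a ha).2 ⟨hv, hv1, fun h => hvz ((H19.J4V.conj_iff_zO hv).2 h)⟩
  have ha' : a ^^^ 1 < 2048 := Nat.xor_lt_two_pow (n := 11) ha (by norm_num)
  have e1 : F.pt (a ^^^ 1) = F.pt a * z := by rw [H19.J4V.pt_xor, hz]
  have hm : F.pt a * z ∈ R.V0 := mul_mem hv (R.sHat_le_V0 R.z_mem_sHat)
  have h2 : (H19.J4V.tMask 653).testBit (a ^^^ 1) = true :=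
    (hM _ ha').2 ⟨e1 ▸ hm, e1 ▸ hw1, fun h => hwz ((H19.J4V.conj_iff_zO hm).2 (e1 ▸ h))⟩
  have h := (List.all_eq_true.1 tmask_low) a (List.mem_range.2 ha)
  rw [h1, h2] at h
  have hlt : a < 128 := Nat.blt_eq.mp (by simpa using h)
  have hx : H19.J4V.cX a = 0 := Nat.div_eq_of_lt hlt
  rw [H19.J4V.Lifts.pt, hx, H19.J4V.Lifts.kx, H19.J4V.selB_zero, mul_one]
  refine mul_mem ?_ (H19.J4V.lz_mem R _)
  cases H19.J4V.cE a
  · exact one_mem _
  · exact d.L.z_mem

theorem twoCore_mem_conj (g a x : G) (hx : x ∈ Cfsg.twoCoreOfCentralizer a) :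
    g * x * g⁻¹ ∈ Cfsg.twoCoreOfCentralizer (g * a * g⁻¹) := by
  rw [← H95.J4Five.twoCore_le_conj g a]
  exact ⟨x, hx, rfl⟩

/-- Elements `d` outside the class with `d * a` outside lie in the two-core of the centralizer of `a`. -/
theorem mem_twoCore_of_pair [IsSimpleGroup G] (hG : ¬ IsMulCommutative G)
    (hJ : Cfsg.IsOfJankoFourTypeWith z P) {V : Subgroup G} (hV : Cfsg.IsElementaryAbelian 2 V)
    (hcard : Nat.card V = 2 ^ 11) {a v : G} (ha : a ∈ V) (haz : IsConj z a) (hv : v ∈ V) (hv1 : v ≠ 1)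
    (hvz : ¬ IsConj z v) (hw1 : v * a ≠ 1) (hwz : ¬ IsConj z (v * a)) :
    v ∈ Cfsg.twoCoreOfCentralizer a := by
  obtain ⟨g, rfl⟩ := isConj_iff.1 haz
  obtain ⟨N, e, o⟩ := outer_of_type hJ
  obtain ⟨R⟩ := exists_real o (data_of_type hJ)
  obtain ⟨k, hk⟩ := H95.J4Five.exists_conj_V R o
    (H95.J4Five.elementary_conj g⁻¹ hV) (by rw [H95.J4Five.card_map_conj, hcard])
    ⟨_, ha, by simp [mul_assoc]⟩
  set t := (k : G) * g⁻¹ with ht
  have hkz : (k : G) * z = z * k := mem_centralizer_singleton_iff.1 k.2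
  have hta : t * (g * z * g⁻¹) * t⁻¹ = z := by
    calc t * (g * z * g⁻¹) * t⁻¹ = (k : G) * z * (k : G)⁻¹ := by rw [ht]; group
      _ = z := by rw [hkz, mul_inv_cancel_right]
  have hiso : ∀ x, IsConj z (t * x * t⁻¹) ↔ IsConj z x := fun x =>
    ⟨fun h => h.trans (isConj_iff.2 ⟨t⁻¹, by group⟩), fun h => h.trans (isConj_iff.2 ⟨t, rfl⟩)⟩
  have hmem : t * v * t⁻¹ ∈ R.V0 := by
    rw [show t * v * t⁻¹ = (k : G) * (g⁻¹ * v * g) * (k : G)⁻¹ by rw [ht]; group]
    exact (hk _).1 ⟨v, hv, by simp [mul_assoc]⟩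
  have hprod : t * v * t⁻¹ * z = t * (v * (g * z * g⁻¹)) * t⁻¹ := by
    conv_lhs => rw [← hta]
    group
  have hE := mem_E_of_pair hG R o hmem (fun h => hv1 (conj_eq_one_iff.1 h))
    (fun h => hvz ((hiso v).1 h))
    (by rw [hprod]; exact fun h => hw1 (conj_eq_one_iff.1 h))
    (by rw [hprod, hiso]; exact hwz)
  have hx := twoCore_mem_conj t⁻¹ z _ hE
  have ea : t⁻¹ * z * t⁻¹⁻¹ = g * z * g⁻¹ := by
    conv_lhs => rw [← hta]
    group
  rw [ea, show t⁻¹ * (t * v * t⁻¹) * t⁻¹⁻¹ = v by group] at hx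
  exact hx

/-- The two-core of the centralizer of a conjugate of `z` in `V` normalises `V`. -/
theorem twoCore_le_normalizer (hJ : Cfsg.IsOfJankoFourTypeWith z P) {V : Subgroup G}
    (hV : Cfsg.IsElementaryAbelian 2 V) (hcard : Nat.card V = 2 ^ 11) {a : G} (ha : a ∈ V) :
    Cfsg.twoCoreOfCentralizer a ≤ normalizer (V : Set G) := by
  haveI : Fact (Nat.Prime 2) := ⟨Nat.prime_two⟩
  set C := centralizer ({a} : Set G)
  have hVC : V ≤ C := fun x hx =>
    mem_centralizer_singleton_iff.2 (congrArg Subtype.val (hV.1.1.1 ⟨x, hx⟩ ⟨a, ha⟩))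
  obtain ⟨S, hS⟩ := ((IsPGroup.of_card (n := 11) hcard).of_equiv
    (subgroupOfEquivOfLe hVC).symm).exists_le_sylow
  obtain ⟨T, hT⟩ := (S.isPGroup'.map C.subtype).exists_le_sylow
  have hQS : Cfsg.pCore 2 ↥C ≤ (S : Subgroup ↥C) := by
    haveI := H1.pCore_normal' 2 ↥C
    have hp : IsPGroup 2 ↥((Cfsg.pCore 2 ↥C) ⊔ (S : Subgroup ↥C)) :=
      IsPGroup.to_sup_of_normal_left (H1.isPGroup_pCore 2 _) S.isPGroup'
    exact le_sup_left.trans (S.3 hp le_sup_right).le
  have hET : Cfsg.twoCoreOfCentralizer a ≤ (T : Subgroup G) := (map_mono hQS).trans hT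
  have hVT : V ≤ (T : Subgroup G) := fun x hx => hT ⟨⟨x, hVC hx⟩, hS hx, rfl⟩
  obtain ⟨U, -, huniq⟩ := sylow_unique_elementary hJ T
  intro x hx
  have hxT : x ∈ (T : Subgroup G) := hET hx
  have hconj : ∀ u ∈ V, x * u * x⁻¹ ∈ (T : Subgroup G) := fun u hu =>
    mul_mem (mul_mem hxT (hVT hu)) (inv_mem hxT)
  have heq : V.map (MulAut.conj x).toMonoidHom = V := by
    refine (huniq _ ⟨?_, H95.J4Five.elementary_conj x hV,
      by rw [H95.J4Five.card_map_conj, hcard]⟩).trans (huniq V ⟨hVT, hV, hcard⟩).symm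
    rintro _ ⟨u, hu, rfl⟩
    exact hconj u hu
  refine mem_normalizer_iff.2 fun u => ?_
  nth_rw 2 [← heq]
  rw [H95.J4Five.mem_map_conj, H95.J4Five.conj_inv_conj]

end H95.J4Tau
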