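import Cfsg.Agent.H95.J4Tau.Cert
import Cfsg.Agent.H74.J4Tau.Words

/-!
The possible images of the vector `44`: a permutation moving each point at most to its partner and
commuting with two permutations, and a vector with four equations.
-/

set_option autoImplicit false
set_option maxRecDepth 100000

namespace H95.J4Tau

open H54.J4 (Pres gA gB permX permY)
open H84.J4N (pv psi wg)
open H94.J4 (NN VV vec act)

theorem pm2_lt (i k : Fin 24) : pm2 i k < 2048 := by
  refine Nat.xor_lt_two_pow (n := 11) ?_ ?_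
  · have h := List.all_eq_true.1 pts_cert i.val (List.mem_range.2 i.2)
    rw [Bool.and_eq_true, Nat.blt_eq] at h
    exact h.1
  · have h := List.all_eq_true.1 pts_cert k.val (List.mem_range.2 k.2)
    rw [Bool.and_eq_true, Nat.blt_eq] at h
    exact h.1

theorem act_pm2 (g : Pres) (i k : Fin 24) :
    act g (vec (pm2 i k)) = vec (pm2 (psi g i) (psi g k)) := by
  let S : Subgroup Pres :=
    { carrier := {g | ∀ i k : Fin 24, act g (vec (pm2 i k)) = vec (pm2 (psi g i) (psi g k))}
      one_mem' := fun i k => by simp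
      mul_mem' := fun {a b} ha hb i k => by
        rw [map_mul, MulAut.mul_apply, hb, ha, map_mul]
        rfl
      inv_mem' := fun {a} ha i k => by
        have h := ha (psi a⁻¹ i) (psi a⁻¹ k)
        rw [map_inv psi, Equiv.Perm.coe_inv, Equiv.apply_symm_apply, Equiv.apply_symm_apply] at h
        rw [← h, map_inv act, MulAut.inv_apply_self, map_inv psi]
        rfl }
  have hS : (⊤ : Subgroup Pres) ≤ S := by
    rw [← H54.J4.closure_gens, Subgroup.closure_le]
    rintro p (rfl | rfl) i k
    · rw [H84.J4N.psi_gA, ← (equiv_cols i k).1]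
      exact H74.J4Tau.lv_cols 0 _
    · rw [H84.J4N.psi_gB, ← (equiv_cols i k).2]
      exact H74.J4Tau.lv_cols 2 _
  exact hS (Subgroup.mem_top g) i k

theorem psi_mem (g : Pres) : H54.J4.toPts (psi g) ∈ Cfsg.M24 := by
  have e : (Cfsg.M24.subtype).comp H54.J4.toM24 = H54.J4.toPts.comp psi := by
    apply MonoidHom.eq_of_eqOn_dense H54.J4.closure_gens
    rintro g (rfl | rfl)
    · simp [H54.J4.toM24_gA, H84.J4N.psi_gA, H54.J4.mA]
    · simp [H54.J4.toM24_gB, H84.J4N.psi_gB, H54.J4.mB]
  have h := DFunLike.congr_fun e g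
  simp only [MonoidHom.comp_apply] at h
  rw [← h]
  exact (H54.J4.toM24 g).2

theorem wg_move {p : Pres} {w : List ℕ} (h : Commute p (pv w)) (i : Fin 24) :
    wg w (psi p i).val = (psi p ((psi (pv w))⁻¹ i)).val := by
  rw [H84.J4N.wg_spec, ← Equiv.Perm.mul_apply, ← Equiv.Perm.mul_apply, (h.map psi).inv_right.eq]

theorem wg_lt (w : List ℕ) {i : ℕ} (hi : i < 24) : wg w i < 24 := by
  have h := H84.J4N.wg_spec w ⟨i, hi⟩
  simp only at h
  rw [h]
  exact Fin.isLt _

/-- A permutation moving every point at most to its partner and commuting with two words. -/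
theorem right_cases {p : Pres} (h0 : Commute p (pv (sW.getD 0 [])))
    (h1 : Commute p (pv (sW.getD 1 [])))
    (hm : ∀ i : Fin 24, (psi p i).val = i.val ∨ (psi p i).val = mateL.getD i.val 0) :
    p = 1 ∨ p = pv p0W := by
  classical
  have hc : ∀ l : List ℕ, Commute p (pv (l.flatMap fun n => sW.getD n [])) := by
    intro l
    induction l with
    | nil => simp [Commute.one_right]
    | cons n l ih =>
      rw [List.flatMap_cons, H84.J4N.pv_append]
      refine Commute.mul_right ?_ ih
      match n with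
      | 0 => exact h0
      | 1 => exact h1
      | n + 2 => simp [sW, Commute.one_right]
  let r : Fin 4 → Fin 24 := fun i => ⟨repP.getD i.val 0, (mate_lt i i.2).1⟩
  let b : Fin 4 → Bool := fun i => decide ((psi p (r i)).val ≠ (r i).val)
  have hsim : ∀ i : Fin 24, (psi p i).val = simP [b 0, b 1, b 2, b 3] i.val := by
    intro i
    have hcert := List.all_eq_true.1 tr_cert i.val (List.mem_range.2 i.2)
    simp only [Bool.and_eq_true, Nat.blt_eq] at hcert
    obtain ⟨h1', hlt, -⟩ := hcert
    have e := Nat.eq_of_beq_eq_true h1'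
    unfold simP at e ⊢
    set k := (trL.getD i.val (0, [])).1
    set w := (trL.getD i.val (0, [])).2.flatMap fun n => sW.getD n []
    simp only [List.getD_nil, cond_false] at e
    have ew : (psi (pv w))⁻¹ (r ⟨k, hlt⟩) = i := Fin.ext (by rw [← H84.J4N.wg_spec]; exact e)
    have hb : [b 0, b 1, b 2, b 3].getD k false = b ⟨k, hlt⟩ := by
      interval_cases k <;> rfl
    rw [hb, ← ew, ← wg_move (hc _)]
    refine congrArg (wg w) ?_
    rcases hm (r ⟨k, hlt⟩) with h | h
    · have : b ⟨k, hlt⟩ = false := by simp [b, h]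
      rw [this]
      exact h
    · by_cases he : (psi p (r ⟨k, hlt⟩)).val = (r ⟨k, hlt⟩).val
      · have : b ⟨k, hlt⟩ = false := by simp [b, he]
        rw [this]
        exact he
      · have : b ⟨k, hlt⟩ = true := by simp [b, he]
        rw [this]
        exact h
  rcases choices (b 0) (b 1) (b 2) (b 3) with e | e | ⟨e, he⟩
  · left
    refine H84.J4N.psi_injective (Equiv.ext fun i => Fin.ext ?_)
    have h := List.all_eq_true.1 tr_cert i.val (List.mem_range.2 i.2)
    simp only [Bool.and_eq_true] at h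
    rw [hsim i, e, map_one, Equiv.Perm.one_apply]
    have h' := Nat.eq_of_beq_eq_true h.1
    unfold simP at h' ⊢
    have hg : ∀ k, [false, false, false, false].getD k false = false := by
      intro k
      rcases k with _ | _ | _ | _ | k <;> rfl
    simp only [hg, List.getD_nil, cond_false] at h' ⊢
    exact h'
  · right
    refine H84.J4N.psi_injective (Equiv.ext fun i => Fin.ext ?_)
    have h := List.all_eq_true.1 tr_cert i.val (List.mem_range.2 i.2)
    simp only [Bool.and_eq_true] at h
    rw [hsim i, e, Nat.eq_of_beq_eq_true h.2.2, H84.J4N.wg_spec, H84.J4N.pv_wi, map_inv, inv_inv]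
  · exfalso
    have h := (H90.mem_M24_iff_preservesCode
      (H54.J4.repr_toPts fun i => ((hsim i).trans (he i).symm))).1 (psi_mem p)
    rw [e] at h
    exact Bool.false_ne_true h

theorem point_cases {p : Pres} (h : ∀ i : Fin 24, ∀ x ∈ witL.getD i.val [],
    act p (vec (pm2 i x.1)) = vec (pm2 i x.1) ∨
      act p (vec (pm2 i x.1)) = vec (pm2 i x.1 ^^^ x.2)) (i : Fin 24) :
    (psi p i).val = i.val ∨ (psi p i).val = mateL.getD i.val 0 := by
  have hc := List.all_eq_true.1
    (List.all_eq_true.1 point_cert i.val (List.mem_range.2 i.2)) (psi p i).val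
    (List.mem_range.2 (psi p i).2)
  simp only [Bool.or_eq_true] at hc
  rcases hc with hc | hc | hc
  · exact Or.inl (Nat.eq_of_beq_eq_true hc)
  · exact Or.inr (Nat.eq_of_beq_eq_true hc)
  exfalso
  obtain ⟨x, hx, hs⟩ := List.any_eq_true.1 hc
  have hp := List.all_eq_true.1 pts_cert i.val (List.mem_range.2 i.2)
  simp only [Bool.and_eq_true, List.all_eq_true] at hp
  have hx' := hp.2 x hx
  simp only [Bool.and_eq_true, Nat.blt_eq, Bool.not_eq_true'] at hx'
  obtain ⟨hlt, hne, -, -, hmem⟩ := hx'
  let k : Fin 24 := ⟨x.1, hlt⟩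
  have hk : (psi p k).val ≠ (psi p i).val := fun e => by
    have : x.1 = i.val := congrArg Fin.val ((psi p).injective (Fin.ext e) : k = i)
    rw [this] at hne
    simp at hne
  have hlt2 : x.2 < 2048 :=
    (by decide : ∀ a ∈ ([1731, 629, 1206] : List ℕ), a < 2048) _ (List.contains_iff_mem.1 hmem)
  have he := List.all_eq_true.1 hs (psi p k).val (List.mem_range.2 (psi p k).2)
  simp only [Bool.or_eq_true, Bool.not_eq_true'] at he
  rcases he with he | he
  · exact hk (Nat.eq_of_beq_eq_true he)
  have ha := h i x hx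
  rw [show x.1 = k.val from rfl, act_pm2] at ha
  have hxor : pm2 i k ^^^ x.2 < 2048 := Nat.xor_lt_two_pow (n := 11) (pm2_lt i k) hlt2
  rcases ha with ha | ha
  · rw [H74.J4Tau.vec_inj (pm2_lt _ _) (pm2_lt i k) ha, show k.val = x.1 from rfl] at he
    simp at he
  · rw [H74.J4Tau.vec_inj (pm2_lt _ _) hxor ha, show k.val = x.1 from rfl] at he
    simp at he

theorem app_lt {L : List ℕ} (hL : ∀ j < 11, L.getD j 0 < 2048) (m : ℕ) :
    H94.J4.app L m < 2048 := by
  have : ∀ k ≤ 11, H94.J4.appMask L m k < 2048 := by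
    intro k
    induction k with
    | zero => intro _; norm_num [H94.J4.appMask]
    | succ k ihk =>
      intro hk'
      refine Nat.xor_lt_two_pow (n := 11) ?_ (ihk (by omega))
      split
      · exact hL k (by omega)
      · norm_num
  exact this 11 le_rfl

theorem act_cols {w L : List ℕ} (h : ∀ j < 11, runW w (2 ^ j) = L.getD j 0) (m : ℕ) :
    act (pv w) (vec m) = vec (H94.J4.app L m) := by
  have e : (act (pv w)).toMonoidHom = H94.J4.colHom L := H94.J4.hom_ext fun j => by
    rw [H94.J4.colHom_bv, MulEquiv.toMonoidHom_eq_coe, MonoidHom.coe_coe, ← H94.J4.vec_two_pow,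
      act_runW, h j j.2]
  rw [← H94.J4.colHom_vec, ← e]
  rfl

theorem cols_spec : ∀ j < 11,
    runW (sW.getD 0 []) (2 ^ j) = (colsL.getD 0 []).getD j 0 ∧
      runW (sW.getD 1 []) (2 ^ j) = (colsL.getD 1 []).getD j 0 ∧
      runW p0W (2 ^ j) = (colsL.getD 2 []).getD j 0 ∧
      runW hW (2 ^ j) = (colsL.getD 3 []).getD j 0 := by
  intro j hj
  have h := List.all_eq_true.1 cols_cert j (List.mem_range.2 hj)
  simp only [Bool.and_eq_true] at h
  exact ⟨Nat.eq_of_beq_eq_true h.1, Nat.eq_of_beq_eq_true h.2.1, Nat.eq_of_beq_eq_true h.2.2.1,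
    Nat.eq_of_beq_eq_true h.2.2.2⟩

theorem mask_cases {u : ℕ} (hu : u < 2048)
    (h0 : act (pv (sW.getD 0 [])) (vec u) = vec u) (h1 : act (pv (sW.getD 1 [])) (vec u) = vec u)
    (h2 : act (pv p0W) (vec u) = vec u) (h3 : act (pv hW) (vec u) = vec (u ^^^ 1206)) :
    u = 44 ∨ u = 1003 := by
  have hb : ∀ i < 4, ∀ j < 11, (colsL.getD i []).getD j 0 < 2048 := by decide +kernel
  rw [act_cols fun j hj => (cols_spec j hj).1] at h0
  rw [act_cols fun j hj => (cols_spec j hj).2.1] at h1
  rw [act_cols fun j hj => (cols_spec j hj).2.2.1] at h2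
  rw [act_cols fun j hj => (cols_spec j hj).2.2.2] at h3
  have h := List.all_eq_true.1 mask_cert u (List.mem_range.2 hu)
  rw [H74.J4Tau.vec_inj (app_lt (hb 0 (by norm_num)) _) hu h0,
    H74.J4Tau.vec_inj (app_lt (hb 1 (by norm_num)) _) hu h1,
    H74.J4Tau.vec_inj (app_lt (hb 2 (by norm_num)) _) hu h2,
    H74.J4Tau.vec_inj (app_lt (hb 3 (by norm_num)) _)
      (Nat.xor_lt_two_pow (n := 11) hu (by norm_num)) h3] at h
  simpa using h

end H95.J4Tau
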