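import Cfsg.Agent.H95.J4Tau.Alpha
import Cfsg.Agent.H95.J4Tau.Core
import Cfsg.Agent.H95.J4Tau.Forced
import Cfsg.Agent.H95.J4T.Uniq

/-!
An involution outside a copy of the model of the normalizer commuting with the normalising
generators and the fixed vectors has, after an automorphism of the model fixing every vector, the
primary pairs.
-/

set_option autoImplicit false
set_option maxRecDepth 100000

namespace H95.J4Tau

open Subgroup Cfsg.Agent.H69.J4
open H54.J4 (Pres)
open H84.J4N (pv psi)
open H94.J4 (NN VV vec act gen14)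
open H74.J4Tau (pairW genC genI zMasks)
open H77.HN (evw)

variable {G : Type*} [Group G]

/-- Two members of the two-core of the centralizer of an element of the class commute modulo it. -/
theorem comm_twoCore [Finite G] {z : G} {P : Subgroup G} (hJ : Cfsg.IsOfJankoFourTypeWith z P) {a x y : G}
    (haz : IsConj z a) (hx : x ∈ Cfsg.twoCoreOfCentralizer a)
    (hy : y ∈ Cfsg.twoCoreOfCentralizer a) : x * y = y * x ∨ x * y = y * x * a := by
  obtain ⟨g, rfl⟩ := isConj_iff.1 haz
  have hx' := twoCore_mem_conj g⁻¹ _ _ hx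
  have hy' := twoCore_mem_conj g⁻¹ _ _ hy
  rw [show g⁻¹ * (g * z * g⁻¹) * g⁻¹⁻¹ = z by group] at hx' hy'
  set d := data_of_type hJ
  have hzz : z * z = 1 := by rw [← sq, ← hJ.1]; exact pow_orderOf_eq_one z
  have h := d.comm_bar (QuotientGroup.mk ⟨_, hx'⟩) (QuotientGroup.mk ⟨_, hy'⟩)
  rw [← QuotientGroup.mk_mul, ← QuotientGroup.mk_mul, d.mk_eq_iff] at h
  simp only [Subgroup.coe_mul] at h
  rcases h with h | h
  · left
    calc x * y = g * (g⁻¹ * x * g⁻¹⁻¹ * (g⁻¹ * y * g⁻¹⁻¹)) * g⁻¹ := by group
      _ = y * x := by rw [← h]; group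
  · right
    calc x * y = g * (g⁻¹ * x * g⁻¹⁻¹ * (g⁻¹ * y * g⁻¹⁻¹) * z * z) * g⁻¹ := by
          rw [mul_assoc _ z z, hzz]; group
      _ = y * x * (g * z * g⁻¹) := by rw [← h]; group

theorem comm_word {j : NN →* G} {t : G} (hA : Commute t (j genC)) (hB : Commute t (j genI))
    (l : List ℕ) : Commute t (j (SemidirectProduct.inr (pv (l.flatMap pairW)))) := by
  induction l with
  | nil => simp [Commute.one_right]
  | cons k l ih =>
    rw [List.flatMap_cons, H84.J4N.pv_append, map_mul, map_mul]
    refine Commute.mul_right ?_ ih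
    rw [pairW]
    split_ifs
    · exact hA
    · exact hB

theorem inr_conj_vec (w : List ℕ) (m : ℕ) :
    (SemidirectProduct.inr (pv w) : NN) * SemidirectProduct.inl (vec m) =
      SemidirectProduct.inl (vec (runW w m)) * SemidirectProduct.inr (pv w) := by
  rw [← act_runW, SemidirectProduct.inl_aut, map_inv, inv_mul_cancel_right]

variable [Finite G] [IsSimpleGroup G] {z : G} {P V : Subgroup G}

/-- The image of the vector `44` is one of two elements of the model. -/
theorem image_cases (hG : ¬ IsMulCommutative G) (hJ : Cfsg.IsOfJankoFourTypeWith z P)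
    (hV : Cfsg.IsElementaryAbelian 2 V) (hcard : Nat.card V = 2 ^ 11) (j : NN →* G)
    (hj : Function.Injective j) (hrange : j.range = normalizer (V : Set G))
    (hinl : (SemidirectProduct.inl.range : Subgroup NN).map j = V)
    (hcls : ∀ m < 2048, m ≠ 0 →
      (IsConj z (j (SemidirectProduct.inl (vec m))) ↔ isPair m = false))
    (hcent : ∀ m < 2048, isPair m = true →
      centralizer ({j (SemidirectProduct.inl (vec m))} : Set G) ≤ j.range)
    {t : G} (ht : t * t = 1) (htN : t ∉ j.range) (hA : Commute t (j genC))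
    (hB : Commute t (j genI))
    (hz : ∀ m ∈ zMasks, Commute t (j (SemidirectProduct.inl (vec m)))) :
    t * j (SemidirectProduct.inl (vec 44)) * t = j (eR (44, p0W)) ∨
      t * j (SemidirectProduct.inl (vec 44)) * t = j (eR (1003, p0W)) := by
  classical
  have hti : t⁻¹ = t := inv_eq_of_mul_eq_one_right ht
  have hVm : ∀ m, j (SemidirectProduct.inl (vec m)) ∈ V := fun m =>
    hinl ▸ ⟨_, ⟨_, rfl⟩, rfl⟩
  have hne : ∀ m < 2048, m ≠ 0 → j (SemidirectProduct.inl (vec m)) ≠ 1 := fun m hm h0 h =>
    h0 (H74.J4Tau.vec_inj hm (by norm_num) ((SemidirectProduct.inl_injective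
      (hj (by rw [h, map_one, map_one]))).trans H94.J4.vec_zero.symm))
  have hmul : ∀ a b, j (SemidirectProduct.inl (vec a)) * j (SemidirectProduct.inl (vec b)) =
      j (SemidirectProduct.inl (vec (a ^^^ b))) := fun a b => by
    rw [← map_mul, ← map_mul, ← H94.J4.vec_xor]
  set d := j (SemidirectProduct.inl (vec 44)) with hd
  set x := t * d * t with hxdef
  obtain ⟨hd44, hAs⟩ := class_cert
  have hpair : ∀ w a : ℕ, w < 2048 → a ∈ ([1731, 629, 1206] : List ℕ) → isPair w = true →
      isPair (w ^^^ a) = true →
      j (SemidirectProduct.inl (vec w)) ∈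
        Cfsg.twoCoreOfCentralizer (j (SemidirectProduct.inl (vec a))) := by
    intro w a hw ha h1 h2
    obtain ⟨hap, -, ha0, halt, -, -⟩ := hAs a ha
    have hp0 : isPair 0 = false := by decide +kernel
    have hw0 : w ≠ 0 := fun e => by rw [e, hp0] at h1; cases h1
    have hw2 : w ^^^ a ≠ 0 := fun e => by rw [e, hp0] at h2; cases h2
    have hlt2 : w ^^^ a < 2048 := Nat.xor_lt_two_pow (n := 11) hw halt
    refine mem_twoCore_of_pair hG hJ hV hcard (hVm a) ((hcls a halt ha0).2 hap) (hVm w)
      (hne w hw hw0) (fun h => ?_) (hmul w a ▸ hne _ hlt2 hw2) (fun h => ?_)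
    · rw [(hcls w hw hw0).1 h] at h1; cases h1
    · rw [hmul, hcls _ hlt2 hw2] at h
      rw [h] at h2; cases h2
  have hxE : ∀ a ∈ ([1731, 629, 1206] : List ℕ),
      x ∈ Cfsg.twoCoreOfCentralizer (j (SemidirectProduct.inl (vec a))) := by
    intro a ha
    obtain ⟨-, h44a, -, -, -, haz⟩ := hAs a ha
    have h := twoCore_mem_conj t _ _ (hpair 44 a (by norm_num) ha hd44 h44a)
    rwa [(hz a haz).eq, mul_inv_cancel_right, hti] at h
  obtain ⟨n, hn⟩ : x ∈ j.range := hrange ▸
    twoCore_le_normalizer hJ hV hcard (hVm 1206) (hxE 1206 (by simp))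
  -- conjugation by `t` carries the centralizer of `d` into that of `x`
  have hcx : ∀ e, Commute t e → Commute d e → Commute x e := fun e h1 h2 =>
    (h1.mul_left h2).mul_left h1
  have hfix : ∀ m ∈ zMasks, act n.right (vec m) = vec m := by
    intro m hm
    have h := hcx _ (hz m hm) (by
      show _ = _
      rw [hd, hmul, hmul, Nat.xor_comm])
    rw [← hn] at h
    have h' := congrArg SemidirectProduct.left (hj (by rw [map_mul, map_mul]; exact h.eq) :
      n * SemidirectProduct.inl (vec m) = SemidirectProduct.inl (vec m) * n)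
    simp only [SemidirectProduct.mul_left, SemidirectProduct.left_inl,
      SemidirectProduct.right_inl, map_one, MulAut.one_apply] at h'
    exact mul_left_cancel (h'.trans (mul_comm _ _))
  have hS : ∀ l : List ℕ, runW (l.flatMap pairW) 44 = 44 →
      Commute n.right (pv (l.flatMap pairW)) ∧ act (pv (l.flatMap pairW)) n.left = n.left := by
    intro l hl
    have hdS : Commute d (j (SemidirectProduct.inr (pv (l.flatMap pairW)))) := by
      show _ = _
      rw [hd, ← map_mul, ← map_mul, inr_conj_vec, hl]
    have h := hcx _ (comm_word hA hB l) hdS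
    rw [← hn] at h
    have h' : n * SemidirectProduct.inr (pv (l.flatMap pairW)) =
        SemidirectProduct.inr (pv (l.flatMap pairW)) * n :=
      hj (by rw [map_mul, map_mul]; exact h.eq)
    exact ⟨(by simpa using congrArg SemidirectProduct.right h' :
        n.right * pv (l.flatMap pairW) = pv (l.flatMap pairW) * n.right),
      by simpa using (congrArg SemidirectProduct.left h').symm⟩
  have hsq : n * n = 1 := hj (by
    rw [map_mul, hn, map_one, hxdef]
    calc t * d * t * (t * d * t) = t * d * (t * t) * d * t := by group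
      _ = t * (d * d) * t := by rw [ht]; group
      _ = 1 := by
        rw [hd, hmul, Nat.xor_self, H94.J4.vec_zero, map_one, map_one, mul_one, ht])
  have hu0 : act n.right n.left = n.left := by
    have h := congrArg SemidirectProduct.left hsq
    simp only [SemidirectProduct.mul_left, SemidirectProduct.one_left] at h
    obtain ⟨m, -, hm⟩ := H74.J4Tau.exists_vec n.left
    refine mul_left_cancel (a := n.left) ?_
    rw [h, ← hm, ← H94.J4.vec_xor, Nat.xor_self, H94.J4.vec_zero]
  have hWit : ∀ i : Fin 24, ∀ y ∈ witL.getD i.val [],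
      act n.right (vec (pm2 i y.1)) = vec (pm2 i y.1) ∨
        act n.right (vec (pm2 i y.1)) = vec (pm2 i y.1 ^^^ y.2) := by
    intro i y hy
    have hp := List.all_eq_true.1 pts_cert i.val (List.mem_range.2 i.2)
    simp only [Bool.and_eq_true, List.all_eq_true] at hp
    have hy' := hp.2 y hy
    simp only [Bool.and_eq_true, Nat.blt_eq] at hy'
    obtain ⟨hlt, -, h1, h2, hmem⟩ := hy'
    have hy2 := List.contains_iff_mem.1 hmem
    obtain ⟨hap, -, ha0, halt, -, haz⟩ := hAs y.2 hy2
    rcases comm_twoCore hJ ((hcls _ halt ha0).2 hap) (hxE _ hy2)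
      (hpair _ _ (pm2_lt i ⟨y.1, hlt⟩) hy2 h1 h2) with h | h
    · left
      rw [← hn, ← map_mul, ← map_mul] at h
      have h' := congrArg SemidirectProduct.left (hj h)
      simp only [SemidirectProduct.mul_left, SemidirectProduct.left_inl,
        SemidirectProduct.right_inl, map_one, MulAut.one_apply] at h'
      exact mul_left_cancel (h'.trans (mul_comm _ _))
    · right
      rw [← hn, ← map_mul, ← map_mul, ← map_mul] at h
      have h' := congrArg SemidirectProduct.left (hj h)
      simp only [SemidirectProduct.mul_left, SemidirectProduct.left_inl,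
        SemidirectProduct.mul_right, SemidirectProduct.right_inl, map_one, MulAut.one_apply,
        one_mul, hfix _ haz] at h'
      refine mul_left_cancel (h'.trans ?_)
      rw [H94.J4.vec_xor, ← mul_assoc, mul_comm n.left]
  have hS0 := hS [0, 1, 0, 0, 1, 0] word_cert.1
  have hS1 := hS [1, 0, 0, 0, 0, 0, 0, 0] word_cert.2.1
  rcases right_cases hS0.1 hS1.1 (point_cases hWit) with hp | hp
  · exfalso
    obtain ⟨u, hu, hun⟩ := H74.J4Tau.exists_vec n.left
    have hn' : n = SemidirectProduct.inl (vec u) :=
      SemidirectProduct.ext (by simp [hun]) (by simpa using hp)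
    rw [hn'] at hn
    have hconj : IsConj d x := isConj_iff.2 ⟨t, by rw [hti, hxdef]⟩
    have hu1 : u ≠ 0 := fun e => by
      rw [e, H94.J4.vec_zero, map_one, map_one] at hn
      rw [← hn, isConj_comm, isConj_one_right] at hconj
      exact hne 44 (by norm_num) (by norm_num) hconj
    have hup : isPair u = true := by
      refine Bool.eq_true_of_not_eq_false fun hf => ?_
      have h := ((hcls u hu hu1).2 hf)
      rw [hn] at h
      have := (hcls 44 (by norm_num) (by norm_num)).1 (h.trans hconj.symm)
      rw [hd44] at this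
      cases this
    have hWn : ∀ g ∈ V.map (MulAut.conj t).toMonoidHom, g ∈ normalizer (V : Set G) := by
      rintro _ ⟨v, hv, rfl⟩
      rw [← hrange]
      refine hcent u hu hup (mem_centralizer_singleton_iff.2 ?_)
      show t * v * t⁻¹ * j _ = j _ * (t * v * t⁻¹)
      have hvd : v * d = d * v :=
        congrArg Subtype.val (hV.1.1.1 ⟨v, hv⟩ ⟨d, hd ▸ hVm 44⟩)
      rw [hn, hxdef, hti]
      calc t * v * t * (t * d * t) = t * (v * (t * t) * d) * t := by group
        _ = t * (d * (t * t) * v) * t := by rw [ht, mul_one, hvd, mul_one]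
        _ = t * d * t * (t * v * t) := by group
    have heq := H95.J4T.eq_of_le_normalizer ⟨P, hJ⟩ hV hcard
      (H95.J4Five.elementary_conj t hV) (by rw [H95.J4Five.card_map_conj, hcard]) hWn
    refine htN ?_
    rw [hrange]
    refine mem_normalizer_iff.2 fun v => ?_
    nth_rw 2 [← heq]
    rw [H95.J4Five.mem_map_conj, H95.J4Five.conj_inv_conj]
  · obtain ⟨u, hu, hun⟩ := H74.J4Tau.exists_vec n.left
    have hn' : n = eR (u, p0W) := SemidirectProduct.ext (by rw [eR_left]; exact hun.symm)
      (by rw [eR_right]; exact hp)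
    have hfu : ∀ w, act (pv w) n.left = n.left → act (pv w) (vec u) = vec u := fun w h => by
      rwa [hun]
    have hh : act (pv hW) (vec u) = vec (u ^^^ 1206) := by
      have hdh : j (SemidirectProduct.inr (pv hW)) * d =
          d * j (SemidirectProduct.inl (vec 1206)) * j (SemidirectProduct.inr (pv hW)) := by
        rw [hd, hmul, ← map_mul, inr_conj_vec, word_cert.2.2.1, map_mul]
      have hth : Commute t (j (SemidirectProduct.inr (pv hW))) := comm_word hA hB [0, 0, 0, 1, 0]
      have hxh : j (SemidirectProduct.inr (pv hW)) * x =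
          x * j (SemidirectProduct.inl (vec 1206)) * j (SemidirectProduct.inr (pv hW)) := by
        set h := j (SemidirectProduct.inr (pv hW))
        set e := j (SemidirectProduct.inl (vec 1206))
        have he : Commute t e := hz 1206 (by decide)
        calc h * (t * d * t) = t * (h * d) * t := by
              rw [← mul_assoc, ← mul_assoc, ← hth.eq, mul_assoc t h d]
          _ = t * d * (e * (h * t)) := by rw [hdh]; group
          _ = t * d * (t * e * h) := by rw [← hth.eq, ← mul_assoc e, ← he.eq]
          _ = t * d * t * e * h := by group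
      rw [← hn, ← map_mul, ← map_mul, ← map_mul] at hxh
      have h' := congrArg SemidirectProduct.left (hj hxh)
      simp only [SemidirectProduct.mul_left, SemidirectProduct.left_inl,
        SemidirectProduct.left_inr, SemidirectProduct.right_inr, SemidirectProduct.mul_right,
        SemidirectProduct.right_inl, map_one, mul_one, one_mul, hfix 1206 (by decide),
        ← hun, ← H94.J4.vec_xor] at h'
      exact h'
    rcases mask_cases hu (hfu _ hS0.2) (hfu _ hS1.2) (hfu p0W (by rw [← hp]; exact hu0)) hh with
      rfl | rfl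
    · exact Or.inl (by rw [← hn', hn])
    · exact Or.inr (by rw [← hn', hn])

/-- The primary pairs from the image of the vector `44`. -/
theorem prim_of_image {j : NN →* G} {t : G} (ht : t * t = 1) (hA : Commute t (j genC))
    (hB : Commute t (j genI))
    (hz : ∀ m ∈ zMasks, Commute t (j (SemidirectProduct.inl (vec m))))
    (hx : t * j (SemidirectProduct.inl (vec 44)) * t = j (eR (44, p0W))) :
    ∀ p ∈ H94.J4.Data.prim, t * j (evw gen14 p.1) = j (evw gen14 p.2) * t := by
  have h5 : t * j (eR (44, [])) = j (eR (44, p0W)) * t := by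
    rw [eR_vec, ← hx, mul_assoc (t * j _), ht, mul_one]
  have h5' : t * j (eR (44, p0W)) = j (eR (44, [])) * t := by
    rw [eR_vec, ← hx, ← mul_assoc, ← mul_assoc, ht, one_mul]
  have hp : eR (44, []) * eR (44, p0W) = eR (0, p0W) := by
    rw [← eR_mul]
    exact eR_eq (by decide +kernel)
  have hp' : eR (44, p0W) * eR (44, []) = eR (0, p0W) := by
    rw [← eR_mul]
    exact eR_eq (by decide +kernel)
  have hT : ∀ l, t * j (eR (pairT l).1) = j (eR (pairT l).2) * t := by
    intro l
    match l with
    | 0 => show t * j (eR (0, _)) = j (eR (0, _)) * t; rw [eR_word]; exact hA.eq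
    | 1 => show t * j (eR (0, _)) = j (eR (0, _)) * t; rw [eR_word]; exact hB.eq
    | 2 => show t * j (eR (1885, _)) = _; rw [eR_vec]; exact (hz 1885 (by decide)).eq.trans
            (by rw [← eR_vec]; rfl)
    | 3 => show t * j (eR (1731, _)) = _; rw [eR_vec]; exact (hz 1731 (by decide)).eq.trans
            (by rw [← eR_vec]; rfl)
    | 4 => show t * j (eR (1320, _)) = _; rw [eR_vec]; exact (hz 1320 (by decide)).eq.trans
            (by rw [← eR_vec]; rfl)
    | 5 => exact h5
    | n + 6 =>
      show t * j (eR (0, p0W)) = j (eR (0, p0W)) * t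
      conv_lhs => rw [← hp, map_mul, ← mul_assoc, h5, mul_assoc, h5']
      conv_rhs => rw [← hp', map_mul]
      rw [mul_assoc]
  have hv : ∀ w, t * j (eR (valL w)) = j (eR (valR w)) * t := by
    intro w
    induction w with
    | nil => rw [valL, valR, eR_one, map_one, mul_one, one_mul]
    | cons l w ih =>
      rw [valL, valR, eR_mul, eR_mul, map_mul, map_mul, ← mul_assoc, ih, mul_assoc, hT,
        ← mul_assoc]
  intro p hp
  obtain ⟨i, hi, rfl⟩ := List.getElem_of_mem hp
  have hi' : i < 11 := prim_cert.2 ▸ hi
  have h := List.all_eq_true.1 prim_cert.1 i (List.mem_range.2 hi')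
  rw [List.getD_eq_getElem _ _ hi, Bool.and_eq_true] at h
  rw [← eR_rep14, ← eR_rep14, ← eR_eq h.1, ← eR_eq h.2]
  exact hv _

/-- An element with the primary pairs for the copy or its composite with the automorphism. -/
theorem exists_twist (hG : ¬ IsMulCommutative G) (hJ : Cfsg.IsOfJankoFourTypeWith z P)
    (hV : Cfsg.IsElementaryAbelian 2 V) (hcard : Nat.card V = 2 ^ 11) (j : NN →* G)
    (hj : Function.Injective j) (hrange : j.range = normalizer (V : Set G))
    (hinl : (SemidirectProduct.inl.range : Subgroup NN).map j = V)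
    (hcls : ∀ m < 2048, m ≠ 0 →
      (IsConj z (j (SemidirectProduct.inl (vec m))) ↔ isPair m = false))
    (hcent : ∀ m < 2048, isPair m = true →
      centralizer ({j (SemidirectProduct.inl (vec m))} : Set G) ≤ j.range)
    {t : G} (ht : t * t = 1) (htN : t ∉ j.range) (hA : Commute t (j genC))
    (hB : Commute t (j genI))
    (hz : ∀ m ∈ zMasks, Commute t (j (SemidirectProduct.inl (vec m)))) :
    ∃ k : NN →* G, Function.Injective k ∧ k.range = j.range ∧
      (∀ v, k (SemidirectProduct.inl v) = j (SemidirectProduct.inl v)) ∧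
      ∀ p ∈ H94.J4.Data.prim, t * k (evw gen14 p.1) = k (evw gen14 p.2) * t := by
  rcases image_cases hG hJ hV hcard j hj hrange hinl hcls hcent ht htN hA hB hz with h | h
  · exact ⟨j, hj, rfl, fun v => rfl, prim_of_image ht hA hB hz h⟩
  refine ⟨j.comp alpha, hj.comp alpha_injective, ?_, fun v => by simp [alpha_inl], ?_⟩
  · rw [MonoidHom.range_comp, MonoidHom.range_eq_top.2 alpha_surjective, MonoidHom.range_eq_map]
  refine prim_of_image ht ?_ ?_ (fun m hm => ?_) ?_
  · rw [MonoidHom.comp_apply, alpha_genC]; exact hA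
  · rw [MonoidHom.comp_apply, alpha_genI, map_mul]
    exact (hz 1003 (by decide)).mul_right hB
  · rw [MonoidHom.comp_apply, alpha_inl]; exact hz m hm
  · rw [MonoidHom.comp_apply, MonoidHom.comp_apply, alpha_inl, h, alpha_eR,
      eR_eq alpha_cert.1]

end H95.J4Tau
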