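import Cfsg.Agent.H58.J4Id.Base
import Cfsg.Agent.H74.J4Tau.Exists
import Cfsg.Agent.H95.J4Tau.Twist

/-!
In a group of Janko-four type with coordinates there is a copy of the model and an element outside it
with the primary pairs.
-/

set_option autoImplicit false

namespace H95.J4Tau

open Subgroup H54.J4A10
open H94.J4 (NN gen14 vec)
open H77.HN (evw)

variable {G : Type*} [Group G] [Finite G] [IsSimpleGroup G] {z : G} {V : Subgroup G}

/-- The copy and the element with the primary pairs. -/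
theorem exists_pairs (hG : ¬ IsMulCommutative G) (hJ : Cfsg.IsOfJankoFourTypeAt z)
    (hV : Cfsg.IsElementaryAbelian 2 V) (hcard : Nat.card V = 2 ^ 11) (C : Cfg z V) (b : Bool) :
    ∃ (t : G) (k : NN →* G), Function.Injective k ∧ k.range = (H58.J4Id.jHom C b).range ∧
      (∀ v, k (SemidirectProduct.inl v) = H58.J4Id.jHom C b (SemidirectProduct.inl v)) ∧
      t * t = 1 ∧ t ∉ k.range ∧
      ∀ p ∈ H94.J4.Data.prim, t * k (evw gen14 p.1) = k (evw gen14 p.2) * t := by
  obtain ⟨P, hJ⟩ := hJ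
  obtain ⟨t, ht, -, -, htN, -, hA, hB, hz⟩ :=
    H74.J4Tau.exists_tau hG hJ (H58.J4Id.jHom C b) (H58.J4Id.jHom_injective C b)
  rw [H74.J4Tau.genC_evw] at hA
  rw [H74.J4Tau.genI_evw] at hB
  obtain ⟨k, hk, hr, hv, hp⟩ := exists_twist hG hJ hV hcard (H58.J4Id.jHom C b)
    (H58.J4Id.jHom_injective C b) (H58.J4Id.range_jHom C b) (H58.J4Id.jHom_V C b)
    (fun m hm h0 => H58.J4Id.isConj_jHom_vec C b hm h0)
    (fun m hm h => H58.J4Id.centralizer_jHom_vec C b hm h) ht htN hA hB hz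
  exact ⟨t, k, hk, hr, hv, ht, hr ▸ htN, hp⟩

end H95.J4Tau
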