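import Cfsg.Agent.H95.J4Tau.Cert

/-!
The automorphism of the model fixing every vector and moving the two complements by a derivation.
-/

set_option autoImplicit false
set_option maxRecDepth 100000

namespace H95.J4Tau

open H54.J4 (Pres gA gB relsP gen ev map_ev)
open H84.J4N (pv lv)
open H94.J4 (NN VV vec act)

/-- The new generator of order two. -/
def genXR : ℕ × List ℕ := (1323, [0])

/-- The new generator of order three. -/
def genYR : ℕ × List ℕ := (1680, [2])

/-- The new value of a letter of a relator. -/
def relGen (g : ℕ) : ℕ × List ℕ :=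
  if g = 0 then genXR else if g = 1 then genYR else mulR genYR genYR

/-- The new value of a relator. -/
def relEv : List ℕ → ℕ × List ℕ
  | [] => (0, [])
  | g :: w => mulR (relEv w) (relGen g)

theorem eR_relEv : ∀ w, eR (relEv w) = ev (eR genXR) (eR genYR) w
  | [] => by rw [relEv, eR_one]; rfl
  | g :: w => by
    rw [relEv, eR_mul, eR_relEv w, ev]
    congr 1
    unfold relGen gen
    split_ifs
    · rfl
    · rfl
    · exact eR_mul _ _

theorem rel_cert : (relsP.all fun w => eqR (relEv w) (0, [])) = true := by decide +kernel

/-- The second complement. -/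
noncomputable def compHom : Pres →* NN :=
  PresentedGroup.toGroup (f := ![eR genXR, eR genYR]) (by
    rintro r ⟨w, hw, rfl⟩
    rw [map_ev]
    have h := eR_eq (List.all_eq_true.1 rel_cert w hw)
    rw [eR_relEv, eR_one] at h
    simpa using h)

theorem compHom_gA : compHom gA = eR genXR := by simp [compHom, gA]
theorem compHom_gB : compHom gB = eR genYR := by simp [compHom, gB]

theorem compHom_right (g : Pres) : (compHom g).right = g := by
  have e : SemidirectProduct.rightHom.comp compHom = MonoidHom.id Pres := by
    apply MonoidHom.eq_of_eqOn_dense H54.J4.closure_gens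
    rintro g (rfl | rfl)
    · simp [compHom_gA, eR_right, genXR, pv, lv]
    · simp [compHom_gB, eR_right, genYR, pv, lv]
  exact DFunLike.congr_fun e g

/-- The automorphism. -/
noncomputable def alpha : NN →* NN :=
  SemidirectProduct.lift SemidirectProduct.inl compHom (fun g => MonoidHom.ext fun v => by
    show SemidirectProduct.inl (act g v) =
      compHom g * SemidirectProduct.inl v * (compHom g)⁻¹
    conv_rhs => rw [← SemidirectProduct.inl_left_mul_inr_right (compHom g), compHom_right]
    rw [mul_inv_rev, show SemidirectProduct.inl (compHom g).left * SemidirectProduct.inr g *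
        SemidirectProduct.inl v * ((SemidirectProduct.inr g : NN)⁻¹ *
          (SemidirectProduct.inl (compHom g).left)⁻¹) =
      SemidirectProduct.inl (compHom g).left * (SemidirectProduct.inr g * SemidirectProduct.inl v *
        (SemidirectProduct.inr g : NN)⁻¹) * (SemidirectProduct.inl (compHom g).left)⁻¹ by group,
      ← map_inv SemidirectProduct.inr, ← SemidirectProduct.inl_aut, ← map_inv, ← map_mul,
      ← map_mul, mul_comm (compHom g).left, mul_inv_cancel_right])

theorem alpha_inl (v : VV) : alpha (SemidirectProduct.inl v) = SemidirectProduct.inl v :=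
  SemidirectProduct.lift_inl _ _ _ _

theorem alpha_inr (g : Pres) : alpha (SemidirectProduct.inr g) = compHom g :=
  SemidirectProduct.lift_inr _ _ _ _

theorem alpha_right (n : NN) : (alpha n).right = n.right := by
  conv_lhs => rw [← SemidirectProduct.inl_left_mul_inr_right n]
  rw [map_mul, alpha_inl, alpha_inr, SemidirectProduct.mul_right, compHom_right]
  simp

theorem alpha_injective : Function.Injective alpha := by
  rw [← MonoidHom.ker_eq_bot_iff, eq_bot_iff]
  intro n hn
  rw [MonoidHom.mem_ker] at hn
  have hr : n.right = 1 := by rw [← alpha_right, hn]; rfl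
  have he : n = SemidirectProduct.inl n.left :=
    SemidirectProduct.ext (by simp) (by simpa using hr)
  rw [he, alpha_inl] at hn
  rw [Subgroup.mem_bot, he, hn]

theorem alpha_surjective : Function.Surjective alpha :=
  Finite.injective_iff_surjective.1 alpha_injective

/-- The new value of a letter. -/
def letR : ℕ → ℕ × List ℕ
  | 0 => genXR
  | 1 => mulR genYR genYR
  | _ => genYR

/-- The new value of a word. -/
def wordR : List ℕ → ℕ × List ℕ
  | [] => (0, [])
  | l :: w => mulR (letR l) (wordR w)

theorem eR_wordR : ∀ w, eR (wordR w) = compHom (pv w)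
  | [] => by rw [wordR, eR_one, H84.J4N.pv_nil, map_one]
  | l :: w => by
    rw [wordR, eR_mul, eR_wordR w, H84.J4N.pv_cons, map_mul]
    congr 1
    match l with
    | 0 => exact compHom_gA.symm
    | 1 =>
      show eR (mulR genYR genYR) = compHom gB⁻¹
      rw [eR_mul, ← compHom_gB, ← map_mul]
      exact congrArg _ (eq_inv_of_mul_eq_one_left H54.J4.gB_cube)
    | n + 2 => exact compHom_gB.symm

theorem alpha_eR (m : ℕ) (w : List ℕ) : alpha (eR (m, w)) = eR (mulR (m, []) (wordR w)) := by
  rw [eR_mul, eR_vec, eR_wordR, eR, map_mul, alpha_inl, alpha_inr]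

theorem alpha_cert : eqR (mulR (44, []) (wordR p0W)) (1003, p0W) = true ∧
    eqR (wordR H74.J4Tau.cW) (0, H74.J4Tau.cW) = true ∧
    eqR (wordR H74.J4Tau.iW) (1003, H74.J4Tau.iW) = true := by decide +kernel

theorem alpha_genC : alpha H74.J4Tau.genC = H74.J4Tau.genC := by
  rw [H74.J4Tau.genC, alpha_inr, ← eR_wordR, eR_eq alpha_cert.2.1, eR_word]

theorem alpha_genI :
    alpha H74.J4Tau.genI = SemidirectProduct.inl (vec 1003) * H74.J4Tau.genI := by
  rw [H74.J4Tau.genI, alpha_inr, ← eR_wordR, eR_eq alpha_cert.2.2]
  rfl

end H95.J4Tau
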