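import Cfsg.Agent.H58.J4Id.Base
import Cfsg.Agent.H74.J4Tau.Words
import Cfsg.Agent.H94.J4.Data.Twist

/-!
Data for the conjugation of the model of the normalizer by the element outside it: the masks of the
points, the candidates for the image of one pair vector and the primary pairs.
-/

set_option autoImplicit false
set_option maxRecDepth 100000

namespace H95.J4Tau

open H54.J4 (Pres gA gB relsP)
open H84.J4N (pv lv psi wg sameW li)
open H94.J4 (NN VV vec app act gen14)
open H74.J4Tau (pairW)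
open H77.HN (evw)

/-- The masks of the points; the mask of a pair is the exclusive or. -/
def ptMask : List ℕ := [0, 422, 1414, 163, 1371, 844, 209, 1347, 1612, 1935, 1980, 1895, 807, 959, 1867, 1829, 1509, 799, 1463, 15, 173, 550, 1210, 923]

/-- The partner of a point. -/
def mateL : List ℕ := [21, 7, 6, 8, 22, 17, 2, 1, 3, 20, 16, 14, 18, 15, 11, 13, 10, 5, 12, 23, 9, 0, 4, 19]

/-- A point of each orbit on the pairs of partners. -/
def repP : List ℕ := [0, 2, 3, 11]

/-- Every point from one of the four. -/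
def trL : List (ℕ × List ℕ) := [(0, []), (0, [0, 1, 0, 1, 0]), (1, []), (2, []), (0, [0, 1, 0]), (0, [0]), (1, [0]), (0, [0, 1, 0, 1]), (2, [1]), (0, [1, 0]), (2, [0, 1]), (3, []), (1, [0, 1]), (2, [1, 0]), (3, [0]), (2, [0]), (2, [0, 1, 0]), (0, [1, 0, 1, 0]), (1, [1]), (0, [0, 1]), (0, [1]), (0, [1, 0, 1]), (0, [0, 1, 0, 1, 0, 1]), (0, [1, 0, 1, 0, 1])]

/-- Pairs restricting the image of a point. -/
def witL : List (List (ℕ × ℕ)) := [[(1, 1731), (5, 629)], [(0, 1731), (7, 629)], [(6, 1731), (6, 629)], [(8, 1731), (8, 629)], [(9, 1731), (19, 629)], [(12, 1731), (0, 629)], [(2, 1731), (2, 629)], [(0, 1731), (1, 629)], [(3, 1731), (3, 629)], [(4, 1731), (2, 629)], [(13, 1731), (11, 629)], [(3, 1731), (10, 629)], [(5, 1731), (1, 629)], [(10, 1731), (3, 629)], [(3, 1731), (10, 629)], [(10, 1731), (3, 629)], [(10, 1731), (10, 629)], [(5, 1731), (0, 629)], [(5, 1731), (1, 629)], [(2, 1731), (4, 629)], [(4, 1731), (2, 629)], [(0, 1731), (0, 629)],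 [(4, 1731), (4, 629)], [(2, 1731), (4, 629)]]

/-- The involution permuting the partners. -/
def p0W : List ℕ := [1, 0, 1, 0, 2, 0, 2, 0, 1, 0, 1, 0, 1, 0, 1, 0, 1, 0, 2, 0, 2, 0, 1, 0, 1, 0, 1, 0, 2, 0, 2, 0, 2, 0, 1, 0, 1, 0, 2, 0, 2, 0, 2, 0, 2, 0, 2, 0, 1, 0, 1, 0, 2, 0, 2, 0, 1, 0, 1, 0, 2, 0, 2, 0, 1, 0, 1, 0, 1, 1, 0, 1, 0, 2, 0, 2, 0, 1, 0, 1, 0, 1, 0, 1, 0, 1, 0, 2, 0, 2, 0, 1, 0, 1, 0, 1, 1, 0, 1, 0, 2, 0, 2, 0, 1, 0, 1, 0, 1, 0, 1, 0, 1, 0, 2, 0, 2, 0, 1, 0, 1, 0, 1, 0, 2, 0, 2, 0, 2, 0, 1, 0, 1, 0, 2, 0, 2, 0, 1, 0, 1, 0, 2, 0, 2, 0, 1, 0, 1, 0, 1, 0, 1, 0, 1, 0, 2, 0, 2, 0, 1, 0, 1, 0, 1, 0, 1, 0, 1, 0, 2, 0, 2, 0, 1, 0, 1, 0, 1, 0]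

/-- The primary pairs in the seven pairs. -/
def primW : List (List ℕ) := [[0, 0, 1, 0, 1, 0, 6, 1, 0, 0, 6, 1, 0, 0, 1], [0, 0, 1, 0, 1, 0, 6, 1, 0, 0, 6, 1, 0, 0, 1, 0], [2], [3], [4], [3, 0, 1, 0, 0, 1, 0, 0, 1, 0, 0, 1, 5, 0], [3, 0, 0, 1, 0, 0, 1, 5, 0, 0, 1, 0, 0, 1], [2, 3, 4, 1, 0, 0, 1, 0, 0, 1, 0, 0, 5, 1, 0, 0], [3, 4, 5, 0, 0, 1, 0, 0, 1, 0, 0, 1, 0, 5, 0, 1], [2, 0, 0, 1, 0, 0, 1, 0, 0, 5, 1, 0, 0, 1], [2, 1, 0, 0, 1, 5, 0, 0, 1, 0, 0, 1, 0, 0]]

/-- Two words in the two generators. -/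
def sW : List (List ℕ) := [[0, 1, 0, 0, 1, 0].flatMap pairW, [1, 0, 0, 0, 0, 0, 0, 0].flatMap pairW]

/-- An element moving the vector `44` by `1206`. -/
def hW : List ℕ := [0, 0, 0, 1, 0].flatMap pairW

/-- The mask of a pair of points. -/
def pm2 (p q : ℕ) : ℕ := ptMask.getD p 0 ^^^ ptMask.getD q 0

/-- Whether a mask labels a pair. -/
def isPair (m : ℕ) : Bool := H54.J4A10.isLab (app H58.J4Id.baseM m)

/-- The action of a word on masks. -/
def runW : List ℕ → ℕ → ℕ
  | [], m => m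
  | l :: w, m => app (H74.J4Tau.letCols l) (runW w m)

theorem act_runW : ∀ (w : List ℕ) (m : ℕ), act (pv w) (vec m) = vec (runW w m)
  | [], m => by simp [runW]
  | l :: w, m => by
    rw [H84.J4N.pv_cons, map_mul, MulAut.mul_apply, act_runW w m, H74.J4Tau.lv_cols, runW]

/-- The element of the model of a mask and a word. -/
noncomputable def eR (a : ℕ × List ℕ) : NN :=
  SemidirectProduct.inl (vec a.1) * SemidirectProduct.inr (pv a.2)

/-- The product of masks with words. -/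
def mulR (a b : ℕ × List ℕ) : ℕ × List ℕ :=
  (bif Nat.beq b.1 0 then a.1 else a.1 ^^^ runW a.2 b.1, a.2 ++ b.2)

/-- Whether two masks with words have the same value. -/
def eqR (a b : ℕ × List ℕ) : Bool := Nat.beq a.1 b.1 && sameW a.2 b.2

theorem eR_left (a : ℕ × List ℕ) : (eR a).left = vec a.1 := by simp [eR]

theorem eR_right (a : ℕ × List ℕ) : (eR a).right = pv a.2 := by simp [eR]

theorem eR_mul (a b : ℕ × List ℕ) : eR (mulR a b) = eR a * eR b := by
  refine SemidirectProduct.ext ?_ ?_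
  · simp only [SemidirectProduct.mul_left, eR_left, eR_right, mulR]
    cases h : Nat.beq b.1 0
    · simp only [cond_false, act_runW, H94.J4.vec_xor]
    · simp [Nat.eq_of_beq_eq_true h, H94.J4.vec_zero]
  · simp only [SemidirectProduct.mul_right, eR_right, mulR, H84.J4N.pv_append]

theorem eR_vec (m : ℕ) : eR (m, []) = SemidirectProduct.inl (vec m) := by simp [eR]

theorem eR_word (w : List ℕ) : eR (0, w) = SemidirectProduct.inr (pv w) := by
  simp [eR, H94.J4.vec_zero]

theorem eR_one : eR (0, []) = 1 := by simp [eR, H94.J4.vec_zero]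

theorem eR_eq {a b : ℕ × List ℕ} (h : eqR a b = true) : eR a = eR b := by
  rw [eqR, Bool.and_eq_true] at h
  rw [eR, eR, Nat.eq_of_beq_eq_true h.1, H84.J4N.pv_eq h.2]

/-- The mask and word of a letter. -/
def lrep (l : ℕ) : ℕ × List ℕ :=
  if l < 3 then (0, [li l]) else (if l - 3 < 11 then 2 ^ (l - 3) else 0, [])

theorem eR_lrep (l : ℕ) : eR (lrep l) = gen14 l := by
  unfold lrep
  split_ifs with h h'
  · rw [eR_word]
    interval_cases l
    · simp [H94.J4.gen14_zero, li, pv, lv]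
    · simp [H94.J4.gen14_one, li, pv, lv]
    · rw [H94.J4.gen14_two, show pv [li 2] = gB⁻¹ by simp [li, pv, lv]]
      exact congrArg _ (eq_inv_of_mul_eq_one_left H54.J4.gB_cube).symm
  · rw [eR_vec]
    have e := H94.J4.gen14_vec ⟨l - 3, h'⟩
    rw [show ((⟨l - 3, h'⟩ : Fin 11) : ℕ) + 3 = l by simp; omega] at e
    rw [e, ← H94.J4.vec_two_pow]
  · rw [eR_one, H94.J4.gen14_of_ge (by omega)]

/-- The mask and word of a word in the fourteen letters. -/
def rep14 : List ℕ → ℕ × List ℕ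
  | [] => (0, [])
  | l :: w => mulR (rep14 w) (lrep l)

theorem eR_rep14 : ∀ w, eR (rep14 w) = evw gen14 w
  | [] => by rw [rep14, eR_one, H77.HN.evw_nil]
  | l :: w => by rw [rep14, eR_mul, eR_rep14 w, eR_lrep, H77.HN.evw_cons]

/-- The seven pairs. -/
def pairT : ℕ → (ℕ × List ℕ) × (ℕ × List ℕ)
  | 0 => ((0, H74.J4Tau.cW), (0, H74.J4Tau.cW))
  | 1 => ((0, H74.J4Tau.iW), (0, H74.J4Tau.iW))
  | 2 => ((1885, []), (1885, []))
  | 3 => ((1731, []), (1731, []))
  | 4 => ((1320, []), (1320, []))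
  | 5 => ((44, []), (44, p0W))
  | _ => ((0, p0W), (0, p0W))

/-- The first members of a product of the seven pairs. -/
def valL : List ℕ → ℕ × List ℕ
  | [] => (0, [])
  | l :: w => mulR (valL w) (pairT l).1

/-- The second members of a product of the seven pairs. -/
def valR : List ℕ → ℕ × List ℕ
  | [] => (0, [])
  | l :: w => mulR (valR w) (pairT l).2

theorem prim_cert : ((List.range 11).all fun i =>
    eqR (valL (primW.getD i [])) (rep14 (H94.J4.Data.prim.getD i ([], [])).1) &&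
      eqR (valR (primW.getD i [])) (rep14 (H94.J4.Data.prim.getD i ([], [])).2)) = true ∧
    H94.J4.Data.prim.length = 11 := by decide +kernel

/-- Four choices give a map of the points. -/
def simP (f : List Bool) (p : ℕ) : ℕ :=
  wg ((trL.getD p (0, [])).2.flatMap fun n => sW.getD n [])
    (bif f.getD (trL.getD p (0, [])).1 false then mateL.getD (repP.getD (trL.getD p (0, [])).1 0) 0
      else repP.getD (trL.getD p (0, [])).1 0)

/-- The packed images of four choices. -/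
def packP (f : List Bool) : ℕ :=
  ((List.range 24).map fun i => simP f i <<< (5 * i)).sum

theorem tr_cert : ((List.range 24).all fun p => Nat.beq (simP [] p) p &&
    (Nat.blt (trL.getD p (0, [])).1 4 &&
      Nat.beq (simP [true, true, false, false] p) (wg (H84.J4N.wi p0W) p))) = true := by
  decide +kernel

theorem choices : ∀ a b c d : Bool, [a, b, c, d] = [false, false, false, false] ∨
    [a, b, c, d] = [true, true, false, false] ∨
    (H90.preservesCode (packP [a, b, c, d]) = false ∧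
      ∀ i : Fin 24, H90.img (packP [a, b, c, d]) i.val = simP [a, b, c, d] i.val) := by
  decide +kernel

theorem pts_cert : ((List.range 24).all fun p => Nat.blt (ptMask.getD p 0) 2048 &&
    ((witL.getD p []).all fun x => Nat.blt x.1 24 && (!Nat.beq x.1 p && (isPair (pm2 p x.1) &&
      (isPair (pm2 p x.1 ^^^ x.2) && ([1731, 629, 1206].contains x.2)))))) = true := by
  decide +kernel

theorem point_cert : ((List.range 24).all fun p => (List.range 24).all fun r =>
    Nat.beq r p || (Nat.beq r (mateL.getD p 0) || ((witL.getD p []).any fun x =>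
      (List.range 24).all fun s => Nat.beq s r ||
        !(Nat.beq (pm2 r s) (pm2 p x.1) || Nat.beq (pm2 r s) (pm2 p x.1 ^^^ x.2))))) = true := by
  decide +kernel

theorem mate_lt : ∀ i < 4, repP.getD i 0 < 24 ∧ mateL.getD (repP.getD i 0) 0 < 24 := by
  decide +kernel

theorem equiv_cols : ∀ i k : Fin 24,
    app H94.J4.colsX (pm2 i k) = pm2 (H54.J4.permX i) (H54.J4.permX k) ∧
      app H94.J4.colsY (pm2 i k) = pm2 (H54.J4.permY i) (H54.J4.permY k) := by decide +kernel

theorem word_cert : runW (sW.getD 0 []) 44 = 44 ∧ runW (sW.getD 1 []) 44 = 44 ∧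
    runW hW 44 = 44 ^^^ 1206 ∧ runW p0W 44 = 44 ∧ runW p0W 1206 = 1206 ∧
    sameW (p0W ++ p0W) [] = true ∧ sameW (hW ++ p0W) (p0W ++ hW) = true := by decide +kernel

/-- The columns of the four words. -/
def colsL : List (List ℕ) := [[1725, 1726, 1230, 730, 883, 1592, 342, 594, 21, 1051, 938],
  [1453, 1330, 1448, 1750, 1742, 850, 1477, 1324, 755, 1258, 607],
  [1681, 1255, 87, 924, 1664, 999, 1189, 788, 806, 1393, 1653],
  [1513, 1956, 235, 398, 1357, 1535, 599, 218, 712, 292, 1362]]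

theorem cols_cert : ((List.range 11).all fun j =>
    Nat.beq (runW (sW.getD 0 []) (2 ^ j)) ((colsL.getD 0 []).getD j 0) &&
    (Nat.beq (runW (sW.getD 1 []) (2 ^ j)) ((colsL.getD 1 []).getD j 0) &&
    (Nat.beq (runW p0W (2 ^ j)) ((colsL.getD 2 []).getD j 0) &&
      Nat.beq (runW hW (2 ^ j)) ((colsL.getD 3 []).getD j 0)))) = true := by decide +kernel

theorem mask_cert : ((List.range 2048).all fun u =>
    !(Nat.beq (app (colsL.getD 2 []) u) u &&
      (Nat.beq (app (colsL.getD 0 []) u) u && (Nat.beq (app (colsL.getD 1 []) u) u &&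
        Nat.beq (app (colsL.getD 3 []) u) (u ^^^ 1206)))) ||
        (Nat.beq u 44 || Nat.beq u 1003)) = true := by decide +kernel

theorem class_cert : isPair 44 = true ∧ ∀ a ∈ ([1731, 629, 1206] : List ℕ),
    isPair a = false ∧ isPair (44 ^^^ a) = true ∧ a ≠ 0 ∧ a < 2048 ∧ 44 ^^^ a ≠ 0 ∧
      a ∈ H74.J4Tau.zMasks := by decide +kernel

end H95.J4Tau
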