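import Cfsg.Agent.H58.J4Id.Tw
import Cfsg.Agent.H95.J4Tau.Pairs

/-!
The interface for the relators exists in every non-commutative simple group of Janko-four type.
-/

set_option autoImplicit false

namespace H95.J4Tau

open H94.J4 (NN)

variable {G : Type*} [Group G] [Finite G] [IsSimpleGroup G]

/-- The interface, with `t ≠ 1`. -/
theorem exists_tw (hG : ¬ IsMulCommutative G) (hJ : Cfsg.IsOfJankoFourType G) :
    ∃ T : H92.J4Rel.Tw G, T.t ≠ 1 := by
  obtain ⟨z, hz⟩ := id hJ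
  obtain ⟨P, hP⟩ := id hz
  obtain ⟨V, C, hV, hcard, hC⟩ := H58.J4Id.exists_copy hG hz
  obtain ⟨t, k, hk, hr, hv, ht, htN, hprim⟩ := exists_pairs hG hz hV hcard C false
  obtain ⟨-, -, hfus⟩ := hC false
  refine ⟨⟨k, hk, t, ht, htN, hprim, fun g hg => ?_, H9.J4LineN.line_field hG hP _ hk⟩,
    fun e => htN ?_⟩
  · obtain ⟨m, hm⟩ := hg
    rw [hr]
    refine hfus g ⟨m, ?_⟩
    rwa [H92.J4Rel.vN, hv, H92.J4Rel.vN, hv] at hm
  · change t = 1 at e
    rw [e]
    exact one_mem _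

end H95.J4Tau
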